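import Cfsg.Agent.Lib.Blocks.SubsectionNorms
import Cfsg.Agent.Lib.Char.Exceptional.SmallDegree
import Cfsg.Agent.Lib.CharAction.RegBlock

/-!
# Divisibility of combinations of characters by centralizer orders
-/

set_option autoImplicit false

namespace CfsgLib.KleinIso

open Cfsg CfsgLib.Char CfsgLib.Blocks CfsgLib.CharAction

variable {p : ℕ} {M : Ideal AlgInt} [M.IsPrime]

/-- Restricted to the centralizer of `u`, a character twisted by `u` is a combination of the
constituents of its restriction, each weighted by an algebraic integer. -/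
theorem exists_twisted_decomposition {G : Type*} [Group G] [Fintype G] (χ : IrrCharacter G) (u : G)
    [Fintype (IrrCharacter (Subgroup.centralizer ({u} : Set G)))] :
    ∃ (n : IrrCharacter (Subgroup.centralizer ({u} : Set G)) → ℕ)
      (w : IrrCharacter (Subgroup.centralizer ({u} : Set G)) → ℂ),
      (∀ ψ, IsIntegral ℤ (w ψ)) ∧ (∀ ψ, orderOf u = 2 → w ψ = 1 ∨ w ψ = -1) ∧
      (∀ s : Subgroup.centralizer ({u} : Set G), (χ : G → ℂ) (s : G) =
        ∑ ψ, (n ψ : ℂ) * (ψ : Subgroup.centralizer ({u} : Set G) → ℂ) s) ∧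
      ∀ s : Subgroup.centralizer ({u} : Set G), (χ : G → ℂ) (u * (s : G)) =
        ∑ ψ, (n ψ : ℂ) * w ψ * (ψ : Subgroup.centralizer ({u} : Set G) → ℂ) s := by
  classical
  let X := Subgroup.centralizer ({u} : Set G)
  have hres := IsChar.restrict X (IsIrr.isCharacter χ.2)
  choose n hn using fun ψ : IrrCharacter X =>
    IsChar.classInner_eq_natCast hres (IsIrr.isCharacter ψ.2)
  have hsum : ∀ s : X, (χ : G → ℂ) (s : G) = ∑ ψ, (n ψ : ℂ) * (ψ : X → ℂ) s := fun s => by
    rw [classFunction_apply_eq_sum (θ := fun x : X => (χ : G → ℂ) x) (IsChar.isClassFunction hres) s]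
    exact Finset.sum_congr rfl fun ψ _ => by rw [hn]
  have huX : u ∈ X := Subgroup.mem_centralizer_singleton_iff.2 rfl
  have hz : (⟨u, huX⟩ : X) ∈ Subgroup.center X :=
    Subgroup.mem_center_iff.2 fun g => Subtype.ext (Subgroup.mem_centralizer_singleton_iff.1 g.2)
  choose w hw1 hw using fun ψ : IrrCharacter X => Exceptional.SmallDegree.central_scalar ψ.2 hz
  have hpow : ∀ ψ : IrrCharacter X, ∀ m : ℕ, (ψ : X → ℂ) ((⟨u, huX⟩ : X) ^ m) = w ψ ^ m * (ψ : X → ℂ) 1 := by
    intro ψ m
    induction m with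
    | zero => simp
    | succ m ih => rw [pow_succ', hw, ih]; ring
  have hord : ∀ ψ, w ψ ^ orderOf u = 1 := fun ψ => by
    have h := hpow ψ (orderOf u)
    rw [show (⟨u, huX⟩ : X) ^ orderOf u = 1 from Subtype.ext (pow_orderOf_eq_one u)] at h
    exact mul_right_cancel₀ (IsIrr.apply_one_ne_zero ψ.2) (by rw [← h, one_mul])
  refine ⟨n, w, fun ψ => IsIntegral.of_pow (orderOf_pos u) (by rw [hord]; exact isIntegral_one),
    fun ψ h2 => sq_eq_one_iff.1 (h2 ▸ hord ψ), hsum, fun s => ?_⟩
  rw [show u * (s : G) = ((⟨u, huX⟩ * s : X) : G) from rfl, hsum]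
  exact Finset.sum_congr rfl fun ψ _ => by rw [hw]; ring

variable (hM : IsPModular p M)
include hM

/-- A combination of characters vanishing on the `p`-singular elements is divisible, at a
`p`-regular element, by the order of the centralizer. -/
theorem div_centralizer_of_vanish {G : Type*} [Group G] [Fintype G] (A : Finset (IrrCharacter G))
    (a : IrrCharacter G → localRing M)
    (hvan : ∀ y : G, p ∣ orderOf y → ∑ χ ∈ A, (a χ : ℂ) * (χ : G → ℂ) y = 0)
    {x : G} (hx : ¬ p ∣ orderOf x) :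
    (∑ χ ∈ A, (a χ : ℂ) * (χ : G → ℂ) x) / (Nat.card (Subgroup.centralizer ({x} : Set G)) : ℂ) ∈
      localRing M := by
  classical
  let X := Subgroup.centralizer ({x} : Set G)
  have := Fintype.ofFinite (IrrCharacter X)
  choose n w hw _ _ hxs using fun χ : IrrCharacter G => exists_twisted_decomposition χ x
  let a' : IrrCharacter X → localRing M := fun ψ => ⟨∑ χ ∈ A, (a χ : ℂ) * ((n χ ψ : ℂ) * w χ ψ),
    Subring.sum_mem _ fun χ _ => mul_mem (a χ).2
      (mul_mem (natCast_mem _ _) (mem_localRing_of_isIntegral (hw χ ψ)))⟩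
  have hexp : ∀ s : X, ∑ ψ, (a' ψ : ℂ) * (ψ : X → ℂ) s =
      ∑ χ ∈ A, (a χ : ℂ) * (χ : G → ℂ) (x * (s : G)) := fun s => by
    simp only [a', Finset.sum_mul, hxs, Finset.mul_sum]
    rw [Finset.sum_comm]
    exact Finset.sum_congr rfl fun χ _ => Finset.sum_congr rfl fun ψ _ => by ring
  have h := sum_degree_div_mem hM Finset.univ a' fun s hs => by
    rw [hexp]
    refine hvan _ ?_
    have hc : Commute x (s : G) := (Subgroup.mem_centralizer_singleton_iff.1 s.2).symm
    have hsG : p ∣ orderOf (s : G) := Subgroup.orderOf_coe s ▸ hs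
    have hdvd := ((Commute.refl x).inv_left.mul_right hc.inv_left).orderOf_mul_dvd_mul_orderOf
    rw [inv_mul_cancel_left, orderOf_inv] at hdvd
    exact (hM.1.dvd_mul.1 (hsG.trans hdvd)).resolve_left hx
  rw [hexp, Subgroup.coe_one, mul_one] at h
  set q := p ^ (Nat.card X).factorization p with hq
  obtain ⟨r, hr⟩ : q ∣ Nat.card X := Nat.ordProj_dvd _ _
  have hrp : ¬ p ∣ r := by
    intro hd
    have : r = Nat.card X / q := by rw [hr, Nat.mul_div_cancel_left _ (pow_pos hM.1.pos _)]
    exact Nat.not_dvd_ordCompl hM.1 Nat.card_pos.ne' (this ▸ hd)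
  show _ / (Nat.card X : ℂ) ∈ _
  rw [hr, Nat.cast_mul, ← div_div, div_eq_mul_inv _ (r : ℂ)]
  exact mul_mem h (inv_natCast_mem hM hrp)

end CfsgLib.KleinIso
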