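import Cfsg.Agent.Lib.Pairs.AbelianLocal
import Cfsg.Agent.Lib.Pairs.Correspondence
import Cfsg.Agent.Lib.Blocks.ExtendedFirst

/-!
# A block of the normalizer and the block it induces share their maximal pairs
-/

set_option autoImplicit false

namespace CfsgLib.KleinIso

open Cfsg MonoidAlgebra CfsgLib.Blocks CfsgLib.Pairs

variable {G : Type*} [Group G] [Fintype G] {M : Ideal AlgInt} [M.IsPrime] {p : ℕ} [Fact p.Prime]
  (hM : IsPModular p M)
include hM

/-- An abelian `p`-subgroup `P` and a pair on it of a block of `N(P)` give a pair, with the same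
inertial index, of the induced block. -/
theorem exists_pair_up {P : Subgroup G} (hP : IsPGroup p P)
    (hPab : ∀ a ∈ P, ∀ b ∈ P, a * b = b * a) [Fintype (Subgroup.normalizer (P : Set G))]
    {c : Set (IrrCharacter (Subgroup.normalizer (P : Set G)))} {B : Set (IrrCharacter G)}
    (hcB : IsInducedBlock M (Subgroup.normalizer (P : Set G)) c B)
    {e₀ : Set (IrrCharacter (Subgroup.centralizer
      ((P.subgroupOf (Subgroup.normalizer (P : Set G)) : Subgroup _) :
        Set (Subgroup.normalizer (P : Set G)))))}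
    (he₀ : IsBrauerPairOf p M c (P.subgroupOf (Subgroup.normalizer (P : Set G))) e₀) :
    ∃ e, IsBrauerPairOf p M B P e ∧
      (Subgroup.centralizer (P : Set G)).relIndex (pairStab P e) =
        (Subgroup.centralizer ((P.subgroupOf (Subgroup.normalizer (P : Set G)) : Subgroup _) :
          Set (Subgroup.normalizer (P : Set G)))).relIndex
          (pairStab (P.subgroupOf (Subgroup.normalizer (P : Set G))) e₀) := by
  classical
  have hPN : P ≤ Subgroup.normalizer (P : Set G) := Subgroup.le_normalizer
  have hC : Subgroup.centralizer (P : Set G) ≤ Subgroup.normalizer (P : Set G) :=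
    centralizer_le_normalizer' P
  obtain ⟨⟨R, e⟩, hb⟩ := exists_samePair_up (K := Subgroup.normalizer (P : Set G))
    (a := ⟨P.subgroupOf (Subgroup.normalizer (P : Set G)), e₀⟩)
    (by rw [Subgroup.map_subgroupOf_eq_of_le hPN]; exact hC)
  obtain rfl : R = P := hb.1.symm.trans (Subgroup.map_subgroupOf_eq_of_le hPN)
  have hPe := hb.brauerPair_iff.1 he₀.1
  refine ⟨e, isBrauerPairOf_iff.2 ⟨hPe, hcB.2.1, fun ξ hξ => ?_⟩, ?_⟩
  · obtain ⟨-, φ, hφ, hm⟩ := hb
    have hξ' : mapIrr φ ξ ∈ e₀ := by
      have h : mapIrr φ ξ ∈ mapBlock φ e := ⟨ξ, hξ, rfl⟩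
      have hm' : mapBlock φ e = e₀ := hm
      rwa [hm'] at h
    have hN : Subgroup.normalizer (R : Set G) ≤ Subgroup.normalizer (R : Set G) := le_rfl
    set a := brauerMap R (Subgroup.normalizer (R : Set G)) (blockIdemBar M B) with ha
    have hac : IsCentralElt a := isCentralElt_brauerMap hN (isCentralElt_blockIdemBar hcB.2.1)
    obtain ⟨η, hη⟩ := IsPBlock.nonempty hcB.1
    obtain ⟨χ, hχ⟩ := IsPBlock.nonempty hcB.2.1
    have h1 : omegaBar η a = 1 := by
      rw [ha, ← omegaBar_resElt_eq_brauerMap hM hP hPN hN η (isCentralElt_blockIdemBar hcB.2.1),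
        (isInducedBlock_iff.1 hcB).2.2 η hη χ hχ _ (isCentralElt_blockIdemBar hcB.2.1),
        omegaBar_blockIdemBar hcB.2.1, if_pos hχ]
    have hP' : IsPGroup p (R.subgroupOf (Subgroup.normalizer (R : Set G))) :=
      hP.comap_of_injective _ (Subgroup.subtype_injective _)
    have hPC' : R.subgroupOf (Subgroup.normalizer (R : Set G)) ≤
        Subgroup.centralizer ((R.subgroupOf (Subgroup.normalizer (R : Set G)) : Subgroup _) :
          Set (Subgroup.normalizer (R : Set G))) := fun z hz =>
      Subgroup.mem_centralizer_iff.2 fun y hy => Subtype.ext (hPab _ hy _ hz)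
    have hind := (inducedFromCent_iff hM hP' hPC' he₀.1.2 c).2 he₀
    have h2 := (isInducedBlock_iff.1 hind).2.2 _ hξ' η hη a hac
    rw [h1] at h2
    rw [pairVal, ← h2]
    refine (omegaBar_pullEquiv φ ξ (isCentralElt_resElt _ hac) fun x => ?_).symm
    rw [coeff_resElt, ha, coeff_brauerMap, coeff_resC, hφ, if_pos ?_]
    exact (hφ x) ▸ (φ x).2
  · have hstab : pairStab (R.subgroupOf (Subgroup.normalizer (R : Set G))) e₀ =
        (pairStab R e).subgroupOf (Subgroup.normalizer (R : Set G)) := by
      ext k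
      rw [Subgroup.mem_subgroupOf, mem_pairStab_iff_conjPair, mem_pairStab_iff_conjPair]
      have hk := hb.conj k
      exact ⟨fun h => (h ▸ hk).unique hb, fun h => (h ▸ hk).unique_down hb⟩
    have hcent : Subgroup.centralizer ((R.subgroupOf (Subgroup.normalizer (R : Set G)) : Subgroup _) :
          Set (Subgroup.normalizer (R : Set G))) =
        (Subgroup.centralizer (R : Set G)).subgroupOf (Subgroup.normalizer (R : Set G)) := by
      ext k
      rw [Subgroup.mem_subgroupOf, Subgroup.mem_centralizer_iff, Subgroup.mem_centralizer_iff]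
      exact ⟨fun h u hu => congrArg Subtype.val (h ⟨u, hPN hu⟩ hu),
        fun h u hu => Subtype.ext (h u hu)⟩
    rw [hstab, hcent, Subgroup.relIndex_subgroupOf (pairStab_le_normalizer R e)]

end CfsgLib.KleinIso
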