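import Cfsg.Agent.Lib.Blocks.KleinIsometry.Perfect
import Cfsg.Prelude.Def_BlockLocal

/-!
# Perfect isometries between 2-blocks with Klein four defect groups and equal rank
-/

set_option autoImplicit false

namespace CfsgLib.KleinIso

open Cfsg CfsgLib.Char CfsgLib.Blocks CfsgLib.CharAction
open scoped Classical

/-- The compatibility of the signs of a bijection with the shapes of the two blocks. -/
def Compatible {G H ι : Type*} [Group G] [Group H] (B : Set (IrrCharacter G))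
    (c : Set (IrrCharacter H)) (f : ι → IrrCharacter G) (g : ι → IrrCharacter H) (σ : ι → ℤ) :
    Prop :=
  (EqOnRegular B ∧ EqOnRegular c ∧ ∀ i, σ i = 1) ∨
    ∃ δ δ', SignedOnSingular B δ ∧ SignedOnSingular c δ' ∧ ∀ i, σ i = δ (f i) * δ' (g i)

theorem Compatible.symm {G H ι : Type*} [Group G] [Group H] {B : Set (IrrCharacter G)}
    {c : Set (IrrCharacter H)} {f : ι → IrrCharacter G} {g : ι → IrrCharacter H} {σ : ι → ℤ}
    (h : Compatible B c f g σ) : Compatible c B g f σ := by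
  rcases h with ⟨h1, h2, h3⟩ | ⟨δ, δ', h1, h2, h3⟩
  · exact Or.inl ⟨h2, h1, h3⟩
  · exact Or.inr ⟨δ', δ, h2, h1, fun i => by rw [h3, mul_comm]⟩

variable {M : Ideal AlgInt} [M.IsPrime] (hM : IsPModular 2 M)
  {G : Type*} [Group G] [Fintype G] {B : Set (IrrCharacter G)} (hB : IsPBlock M B)
  {H : Type*} [Group H] [Fintype H] {c : Set (IrrCharacter H)} (hc : IsPBlock M c)
  {ι : Type*} [Fintype ι] {f : ι → IrrCharacter G} {g : ι → IrrCharacter H} {σ : ι → ℤ}
  (hf : ∀ i, f i ∈ B) (hf' : Function.Injective f) (hfs : ∀ χ ∈ B, ∃ i, f i = χ)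
  (hg : ∀ i, g i ∈ c) (hg' : Function.Injective g) (hgs : ∀ η ∈ c, ∃ i, g i = η)
  (hcomp : Compatible B c f g σ)
include hM hB hc hf hf' hfs hg hg' hgs hcomp

omit hM hB hc hg hg' hgs hcomp in
theorem sum_block {z : IrrCharacter G → ℂ} :
    ∑ χ ∈ (Set.toFinite B).toFinset, z χ = ∑ i, z (f i) :=
  (Finset.sum_bij (fun i _ => f i) (fun i _ => (Set.Finite.mem_toFinset _).2 (hf i))
    (fun i _ j _ h => hf' h)
    (fun χ hχ => by
      obtain ⟨i, hi⟩ := hfs χ ((Set.Finite.mem_toFinset _).1 hχ)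
      exact ⟨i, Finset.mem_univ _, hi⟩) fun i _ => rfl).symm

/-- The kernel vanishes at a regular and a singular element. -/
theorem kernel_eq_zero {x : G} {y : H} (hx : ¬ 2 ∣ orderOf x) (hy : 2 ∣ orderOf y) :
    ∑ i, (σ i : ℂ) * (f i : G → ℂ) x * (g i : H → ℂ) y = 0 := by
  rcases isEmpty_or_nonempty ι with hι | ⟨⟨i₀⟩⟩
  · simp
  rcases hcomp with ⟨hB1, hc1, hσ⟩ | ⟨δ, δ', hB3, hc3, hσ⟩
  · rw [Finset.sum_congr rfl (g := fun i => (f i₀ : G → ℂ) x * (g i : H → ℂ) y) fun i _ => by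
      rw [hσ, Int.cast_one, one_mul, hB1 _ (hf i) _ (hf i₀) x hx], ← Finset.mul_sum,
      ← sum_block (z := fun η : IrrCharacter H => (η : H → ℂ) y) hg hg' hgs,
      sum_singular_eq_zero hM hc hc1 hy, mul_zero]
  · rw [Finset.sum_congr rfl (g := fun i => ((δ' (g i₀) : ℂ) * (g i₀ : H → ℂ) y) *
        ((δ (f i) : ℂ) * (f i : G → ℂ) x)) fun i _ => by
      rw [hσ, hc3.2.1 _ (hg i) _ (hg i₀) y hy]
      have hsq : (δ' (g i) : ℂ) * δ' (g i) = 1 := by
        rcases hc3.1 _ (hg i) with h | h <;> simp [h]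
      push_cast
      linear_combination ((δ' (g i₀) : ℂ) * (g i₀ : H → ℂ) y * δ (f i) * (f i : G → ℂ) x) * hsq,
      ← Finset.mul_sum,
      ← sum_block (z := fun χ : IrrCharacter G => (δ χ : ℂ) * (χ : G → ℂ) x) hf hf' hfs,
      sum_regular_eq_zero' hM hB hB3 hx, mul_zero]

/-- Exactly one of the arguments being regular, the kernel vanishes. -/
theorem kernel_separated {x : G} {y : H} (h : ¬ ((¬ 2 ∣ orderOf x) ↔ ¬ 2 ∣ orderOf y)) :
    ∑ i, (σ i : ℂ) * (f i : G → ℂ) x * (g i : H → ℂ) y = 0 := by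
  by_cases hx : 2 ∣ orderOf x
  · have hy : ¬ 2 ∣ orderOf y := fun hy => h (by simp [hx, hy])
    refine Eq.trans (Finset.sum_congr rfl fun i _ => ?_)
      (kernel_eq_zero hM hc hB hg hg' hgs hf hf' hfs hcomp.symm hy hx)
    ring
  · exact kernel_eq_zero hM hB hc hf hf' hfs hg hg' hgs hcomp hx
      (not_not.1 fun hy => h (iff_of_true hx hy))

variable {P : Subgroup G} (hV : IsKleinFour P) (hD : IsDefectGroup 2 M B P)
  {Q : Subgroup H} (hW : IsKleinFour Q) (hE : IsDefectGroup 2 M c Q)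
include hV hD hW hE

/-- The kernel is divisible by the centralizer order of its first argument. -/
theorem kernel_div (x : G) (y : H) :
    (∑ i, (σ i : ℂ) * (f i : G → ℂ) x * (g i : H → ℂ) y) /
      (Nat.card (Subgroup.centralizer ({x} : Set G)) : ℂ) ∈ localRing M := by
  have hsepar := fun x' => kernel_separated (x := x') (y := y) hM hB hc hf hf' hfs hg hg' hgs hcomp
  by_cases hxy : ¬ ((¬ 2 ∣ orderOf x) ↔ ¬ 2 ∣ orderOf y)
  · rw [hsepar x hxy, zero_div]
    exact zero_mem _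
  rw [not_not] at hxy
  let φ : {χ // χ ∈ B} → ι := fun χ => (hfs χ.1 χ.2).choose
  have hφ : ∀ i, φ ⟨f i, hf i⟩ = i := fun i => hf' (hfs (f i) (hf i)).choose_spec
  let a : IrrCharacter G → localRing M := fun χ => if h : χ ∈ B then
    ⟨(σ (φ ⟨χ, h⟩) : ℂ) * (g (φ ⟨χ, h⟩) : H → ℂ) y, mul_mem (intCast_mem _ _)
      (mem_localRing_of_isIntegral (IsChar.isIntegral (IsIrr.isCharacter (g (φ ⟨χ, h⟩)).2) y))⟩ else 0
  have ha : ∀ i, (a (f i) : ℂ) = (σ i : ℂ) * (g i : H → ℂ) y := fun i => by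
    simp only [a, dif_pos (hf i), hφ]
  have hker : ∀ x' : G, ∑ χ ∈ (Set.toFinite B).toFinset, (a χ : ℂ) * (χ : G → ℂ) x' =
      ∑ i, (σ i : ℂ) * (f i : G → ℂ) x' * (g i : H → ℂ) y := fun x' => by
    rw [sum_block (z := fun χ : IrrCharacter G => (a χ : ℂ) * (χ : G → ℂ) x') hf hf' hfs]
    exact Finset.sum_congr rfl fun i _ => by rw [ha]; ring
  rw [← hker]
  by_cases hy : 2 ∣ orderOf y
  · have hx : 2 ∣ orderOf x := not_not.1 fun h => (hxy.1 h) hy
    refine div_centralizer_singular hM hB hV hD hx a ?_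
    rcases hcomp with ⟨hB1, hc1, hσ⟩ | ⟨δ, δ', hB3, hc3, hσ⟩
    · refine Or.inl ⟨hB1, ?_, ?_⟩
      · rw [sum_block (z := fun χ : IrrCharacter G => (a χ : ℂ)) hf hf' hfs,
          Finset.sum_congr rfl (g := fun i => (g i : H → ℂ) y) fun i _ => by
            rw [ha, hσ, Int.cast_one, one_mul],
          ← sum_block (z := fun η : IrrCharacter H => (η : H → ℂ) y) hg hg' hgs,
          sum_singular_eq_zero hM hc hc1 hy]
      · obtain ⟨a₀, ha₀⟩ := exists_congr_value hM hc hW hE hc1 hy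
        refine ⟨a₀, fun χ hχ => ?_⟩
        obtain ⟨i, rfl⟩ := hfs χ hχ
        obtain ⟨w, hw⟩ := ha₀ _ (hg i)
        exact ⟨w, by rw [ha, hσ, Int.cast_one, one_mul, hw]⟩
    · obtain ⟨η₀, hη₀⟩ := IsPBlock.nonempty hc
      refine Or.inr ⟨δ, hB3, ⟨(δ' η₀ : ℂ) * (η₀ : H → ℂ) y, mul_mem (intCast_mem _ _)
        (mem_localRing_of_isIntegral (IsChar.isIntegral (IsIrr.isCharacter η₀.2) y))⟩, fun χ hχ => ?_⟩
      obtain ⟨i, rfl⟩ := hfs χ hχ
      rw [ha, hσ, hc3.2.1 _ (hg i) _ hη₀ y hy]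
      have hsq : (δ' (g i) : ℂ) * δ' (g i) = 1 := by
        rcases hc3.1 _ (hg i) with h | h <;> simp [h]
      push_cast
      linear_combination ((δ (f i) : ℂ) * δ' η₀ * (η₀ : H → ℂ) y) * hsq
  · refine div_centralizer_of_vanish hM _ a (fun x' hx' => ?_) (hxy.2 hy)
    rw [hker]
    exact hsepar x' fun h => (h.2 hy) hx'

omit hf hf' hfs hg hg' hgs hcomp in
/-- Two 2-blocks with Klein four defect groups and the same rank are perfectly isometric. -/
theorem exists_perfectIsometry (hrank : blockRank 2 B = blockRank 2 c) :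
    ∃ (I : IrrCharacter H → IrrCharacter G) (ε : IrrCharacter H → ℤ),
      IsPerfectIsometry 2 M c B I ε := by
  obtain ⟨hB4, hBs⟩ := block_shape hM hV hB hD
  obtain ⟨hc4, hcs⟩ := block_shape hM hW hc hE
  obtain ⟨χ₀, hχ₀⟩ := IsPBlock.nonempty hB
  obtain ⟨e⟩ : Nonempty (c ≃ B) := ⟨(Finite.equivFinOfCardEq hc4).trans (Finite.equivFinOfCardEq hB4).symm⟩
  let I : IrrCharacter H → IrrCharacter G := fun η => if h : η ∈ c then (e ⟨η, h⟩).1 else χ₀
  have hI : ∀ η : c, I η.1 = (e η).1 := fun η => by simp only [I, dif_pos η.2, Subtype.coe_eta]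
  have hbij : Set.BijOn I c B := by
    refine ⟨fun η hη => ?_, fun η hη η' hη' he => ?_, fun χ hχ => ⟨(e.symm ⟨χ, hχ⟩).1, (e.symm ⟨χ, hχ⟩).2, ?_⟩⟩
    · exact (hI ⟨η, hη⟩).symm ▸ (e ⟨η, hη⟩).2
    · rw [hI ⟨η, hη⟩, hI ⟨η', hη'⟩] at he
      exact congrArg Subtype.val (e.injective (Subtype.ext he))
    · rw [hI, Equiv.apply_symm_apply]
  obtain ⟨ε, hε, hcompat⟩ : ∃ ε : IrrCharacter H → ℤ, (∀ η ∈ c, ε η = 1 ∨ ε η = -1) ∧
      Compatible B c (fun i : c => I i.1) (fun i : c => i.1) (fun i => ε i.1) := by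
    rcases hBs with ⟨hl, hB1⟩ | ⟨hl, δ, hB3⟩ <;> rcases hcs with ⟨hl', hc1⟩ | ⟨hl', δ', hc3⟩
    · exact ⟨fun _ => 1, fun _ _ => Or.inl rfl, Or.inl ⟨hB1, hc1, fun _ => rfl⟩⟩
    · omega
    · omega
    · refine ⟨fun η => δ (I η) * δ' η, fun η hη => ?_, Or.inr ⟨δ, δ', hB3, hc3, fun _ => rfl⟩⟩
      rcases hB3.1 _ (hbij.mapsTo hη) with h | h <;> rcases hc3.1 η hη with h' | h' <;>
        simp [h, h']
  have := Fintype.ofFinite c
  refine ⟨I, ε, hbij, hε, fun x y => ?_⟩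
  have hk : signedBijectionKernel c I ε x y =
      ∑ i : c, (ε i.1 : ℂ) * (I i.1 : G → ℂ) x * ((i.1 : IrrCharacter H) : H → ℂ) y := by
    rw [signedBijectionKernel, finsum_mem_eq_finite_toFinset_sum _ (Set.toFinite c)]
    exact (Finset.sum_subtype _ (fun η => Set.Finite.mem_toFinset _) _)
  have hf : ∀ i : c, I i.1 ∈ B := fun i => hbij.mapsTo i.2
  have hf' : Function.Injective fun i : c => I i.1 := fun i j h => Subtype.ext (hbij.injOn i.2 j.2 h)
  have hfs : ∀ χ ∈ B, ∃ i : c, I i.1 = χ := fun χ hχ => by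
    obtain ⟨η, hη, rfl⟩ := hbij.surjOn hχ
    exact ⟨⟨η, hη⟩, rfl⟩
  have hgs : ∀ η ∈ c, ∃ i : c, i.1 = η := fun η hη => ⟨⟨η, hη⟩, rfl⟩
  rw [hk]
  refine ⟨kernel_div (f := fun i : c => I i.1) (g := fun i : c => i.1) (σ := fun i => ε i.1)
    hM hB hc hf hf' hfs (fun i => i.2) Subtype.val_injective hgs hcompat hV hD hW hE x y, ?_, ?_⟩
  · refine (congrArg (· / _ ∈ localRing M) (Finset.sum_congr rfl fun i _ => ?_)).mp
      (kernel_div (g := fun i : c => I i.1) (f := fun i : c => i.1) (σ := fun i => ε i.1)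
        hM hc hB (fun i => i.2) Subtype.val_injective hgs hf hf' hfs hcompat.symm hW hE hV hD y x)
    ring
  · by_cases h : (IsPRegular 2 x ↔ IsPRegular 2 y)
    · exact Or.inl h
    · exact Or.inr (kernel_separated (f := fun i : c => I i.1) (g := fun i : c => i.1)
        (σ := fun i => ε i.1) hM hB hc hf hf' hfs (fun i => i.2) Subtype.val_injective hgs hcompat h)

end CfsgLib.KleinIso
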