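import Cfsg.Agent.Lib.Blocks.KleinIsometry.Divide
import Cfsg.Agent.Lib.Blocks.Induced

/-!
# The section of an involution of a block with defect four
-/

set_option autoImplicit false

namespace CfsgLib.KleinIso

open Cfsg CfsgLib.Char CfsgLib.Blocks CfsgLib.CharAction
open scoped Classical

variable {M : Ideal AlgInt} [M.IsPrime] (hM : IsPModular 2 M)
  {G : Type*} [Group G] [Fintype G] {B : Set (IrrCharacter G)} (hB : IsPBlock M B)
include hM hB

/-- A block of the centralizer of `u` with a character correlated with `B` on the section of `u`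
induces `B`. -/
theorem classInner_section_eq_zero {u : G} (hu : orderOf u = 2) {χ : IrrCharacter G} (hχ : χ ∈ B)
    (ψ : IrrCharacter (Subgroup.centralizer ({u} : Set G)))
    (hψ : ¬ IsInducedBlock M (Subgroup.centralizer ({u} : Set G))
      (blockOf M (ψ : Subgroup.centralizer ({u} : Set G) → ℂ)) B) :
    classInner (regCut 2 fun s : Subgroup.centralizer ({u} : Set G) => (χ : G → ℂ) (u * (s : G)))
      (ψ : Subgroup.centralizer ({u} : Set G) → ℂ) = 0 := by
  classical
  have : Fact (Nat.Prime 2) := ⟨Nat.prime_two⟩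
  let X := Subgroup.centralizer ({u} : Set G)
  have := Fintype.ofFinite (IrrCharacter X)
  set Bs := (Finset.univ.image fun φ : IrrCharacter X => blockOf M (φ : X → ℂ)).filter
    fun b => IsInducedBlock M X b B with hBs
  let k : IrrCharacter X → ℂ := fun ξ => classInner (fun c : X => (χ : G → ℂ) (u * (c : G))) (ξ : X → ℂ)
  have hexp : regCut 2 (fun s : X => (χ : G → ℂ) (u * (s : G))) =
      ∑ b ∈ Bs, ∑ ξ ∈ (Set.toFinite b).toFinset, k ξ • regCut 2 (ξ : X → ℂ) := by
    funext s
    simp only [Finset.sum_apply, Pi.smul_apply, smul_eq_mul, regCut]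
    split_ifs with hs
    · simp
    · rw [apply_mul_eq_sum_blockPart hM ⟨1, by rw [hu, pow_one]⟩ hB hχ hs]
      refine Finset.sum_congr rfl fun b _ => ?_
      rw [blockPart_eq, finsum_mem_eq_finite_toFinset_sum _ (Set.toFinite b)]
  rw [hexp]
  simp only [classInner, Finset.sum_apply, Pi.smul_apply, smul_eq_mul, Finset.sum_mul,
    Finset.mul_sum]
  rw [Finset.sum_comm]
  refine Finset.sum_eq_zero fun b hb => ?_
  rw [Finset.sum_comm]
  refine Finset.sum_eq_zero fun ξ hξ => ?_
  have hbi := (Finset.mem_filter.1 hb).2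
  have hne : ¬ SameBlock M (ξ : X → ℂ) (ψ : X → ℂ) := fun hs => hψ <| by
    have hb' := (isInducedBlock_iff.1 hbi).1
    rwa [IsPBlock.eq_of_mem (isPBlock_blockOf ψ) hb' (SameBlock.symm' hs)
      ((Set.Finite.mem_toFinset _).1 hξ)]
  have h := sum_regular_eq_zero hM hne
  rw [Finset.sum_filter] at h
  calc _ = ((Nat.card X : ℂ)⁻¹ * k ξ) * ∑ g : X, (if ¬ 2 ∣ orderOf g then
        (ξ : X → ℂ) g * (ψ : X → ℂ) g⁻¹ else 0) := by
        rw [Finset.mul_sum]
        refine Finset.sum_congr rfl fun g _ => ?_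
        simp only [regCut]
        rw [IsIrr.map_inv ψ.2]
        split_ifs <;> ring
    _ = 0 := by rw [h, mul_zero]

variable {P : Subgroup G} (hD : IsDefectGroup 2 M B P) (hcard : Nat.card P = 4)
include hD hcard

/-- The scaled section numbers of `B` at an involution, and their parity. -/
theorem exists_sectionNum {u : G} (hu : orderOf u = 2)
    (ψ : IrrCharacter (Subgroup.centralizer ({u} : Set G))) :
    ∃ q : IrrCharacter G → ℤ,
      (∀ χ ∈ B, 4 * classInner (regCut 2 fun s : Subgroup.centralizer ({u} : Set G) =>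
          (χ : G → ℂ) (u * (s : G))) (ψ : Subgroup.centralizer ({u} : Set G) → ℂ) = (q χ : ℂ)) ∧
      ∀ χ ∈ B, ∀ χ' ∈ B, (∀ g : G, ¬ 2 ∣ orderOf g → (χ : G → ℂ) g = (χ' : G → ℂ) g) →
        (2 : ℤ) ∣ q χ - q χ' := by
  classical
  have : Fact (Nat.Prime 2) := ⟨Nat.prime_two⟩
  let X := Subgroup.centralizer ({u} : Set G)
  have := Fintype.ofFinite (IrrCharacter X)
  by_cases hind : IsInducedBlock M X (blockOf M (ψ : X → ℂ)) B
  swap
  · exact ⟨fun _ => 0, fun χ hχ => by
      rw [classInner_section_eq_zero hM hB hu hχ ψ hind, mul_zero, Int.cast_zero],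
      fun _ _ _ _ _ => by simp⟩
  -- the defect of the local block is at most two
  have hdeg : (Nat.card X).factorization 2 ≤ 2 + degVal 2 (ψ : X → ℂ) := by
    have hb := isPBlock_blockOf (M := M) ψ
    obtain ⟨Db, hDb⟩ := exists_isDefectGroup (p := 2) hb
    obtain ⟨E, hE, hDE⟩ := IsInducedBlock.defectGroup_le hM hind hDb
    have h1 : Nat.card Db ≤ 4 := by
      rw [Nat.card_congr (Db.equivMapOfInjective _ X.subtype_injective).toEquiv, ← hcard]
      refine Nat.le_of_dvd Nat.card_pos ((Subgroup.card_dvd_of_le hDE).trans ?_)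
      rw [IsDefectGroup.card_eq hM hB hE, IsDefectGroup.card_eq hM hB hD]
    rw [IsDefectGroup.card_eq hM hb hDb] at h1
    have h2 : blockDefect 2 (blockOf M (ψ : X → ℂ)) ≤ 2 :=
      (Nat.pow_le_pow_iff_right (le_refl 2)).1 h1
    rw [blockDefect_eq_sub] at h2
    have h3 := minDeg_le (p := 2) (mem_blockOf_self (M := M) ψ)
    have h4 := minDeg_le_card (p := 2) (B := blockOf M (ψ : X → ℂ)) ⟨ψ, mem_blockOf_self ψ⟩
    show (Nat.card (Subgroup.centralizer ({u} : Set G))).factorization 2 ≤ _
    omega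
  have hk : ∀ ξ : IrrCharacter X, ∃ k : ℤ,
      4 * classInner (regCut 2 (ξ : X → ℂ)) (ψ : X → ℂ) = (k : ℂ) := fun ξ => by
    obtain ⟨k, hk⟩ := exists_int_pow_mul_inner ψ ξ (p := 2) (c := 2) hdeg
    refine ⟨k, ?_⟩
    rw [classInner_regCut_swap, ← Complex.conj_ofNat 4, ← map_mul]
    norm_num at hk
    rw [hk, map_intCast]
  choose k hk using hk
  choose n w hw hsgn hres htw using fun χ : IrrCharacter G => exists_twisted_decomposition χ u
  have hsg : ∀ χ ξ, ∃ σ : ℤ, w χ ξ = σ ∧ (σ = 1 ∨ σ = -1) := fun χ ξ => by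
    rcases hsgn χ ξ hu with h | h
    · exact ⟨1, by simp [h], Or.inl rfl⟩
    · exact ⟨-1, by simp [h], Or.inr rfl⟩
  choose σ hσ hσ1 using hsg
  have hlin : ∀ (c : IrrCharacter X → ℤ) (f : X → ℂ), (∀ s, f s = ∑ ξ, (c ξ : ℂ) * (ξ : X → ℂ) s) →
      4 * classInner (regCut 2 f) (ψ : X → ℂ) = ((∑ ξ, c ξ * k ξ : ℤ) : ℂ) := by
    intro c f hf
    push_cast
    simp only [← hk, classInner, regCut, Finset.mul_sum]
    rw [Finset.sum_comm]
    refine Finset.sum_congr rfl fun s _ => ?_
    by_cases hs : 2 ∣ orderOf s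
    · simp [hs]
    · simp only [if_neg hs, hf, Finset.sum_mul, Finset.mul_sum]
      exact Finset.sum_congr rfl fun ξ _ => by ring
  refine ⟨fun χ => ∑ ξ, (n χ ξ : ℤ) * σ χ ξ * k ξ, fun χ _ => hlin _ _ ?_,
    fun χ _ χ' _ heq => ?_⟩
  · intro s
    rw [htw χ s]
    exact Finset.sum_congr rfl fun ξ _ => by rw [hσ]; push_cast; rfl
  · have h0 : ∑ ξ, (n χ ξ : ℤ) * k ξ = ∑ ξ, (n χ' ξ : ℤ) * k ξ := by
      have h1 := hlin (fun ξ => (n χ ξ : ℤ)) (fun s : X => (χ : G → ℂ) (s : G)) fun s => by
        rw [hres χ s]; push_cast; rfl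
      have h2 := hlin (fun ξ => (n χ' ξ : ℤ)) (fun s : X => (χ' : G → ℂ) (s : G)) fun s => by
        rw [hres χ' s]; push_cast; rfl
      rw [show regCut 2 (fun s : X => (χ : G → ℂ) (s : G)) =
        regCut 2 (fun s : X => (χ' : G → ℂ) (s : G)) from funext fun s => by
          simp only [regCut]
          split_ifs with hs
          · rfl
          · exact heq _ (by rwa [Subgroup.orderOf_coe]), h2] at h1
      exact (Int.cast_injective h1).symm
    have he : ∀ χ : IrrCharacter G, (2 : ℤ) ∣
        (∑ ξ, (n χ ξ : ℤ) * σ χ ξ * k ξ) - ∑ ξ, (n χ ξ : ℤ) * k ξ := fun χ => by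
      rw [← Finset.sum_sub_distrib]
      refine Finset.dvd_sum fun ξ _ => ?_
      rcases hσ1 χ ξ with h | h <;> rw [h]
      · simp
      · exact ⟨-((n χ ξ : ℤ) * k ξ), by ring⟩
    have h3 := (he χ).sub (he χ')
    rw [h0] at h3
    simpa [sub_sub_sub_cancel_right] using h3

omit hD hcard in
/-- A combination of the members of `B` is divisible on the section of an involution as soon as
its section numbers are divisible by four. -/
theorem div_centralizer_section {u : G} (hu : orderOf u = 2) (A : Finset (IrrCharacter G))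
    (a : IrrCharacter G → localRing M)
    (hdiv : ∀ ψ : IrrCharacter (Subgroup.centralizer ({u} : Set G)),
      ∑ χ ∈ A, (a χ : ℂ) * classInner (regCut 2 fun s : Subgroup.centralizer ({u} : Set G) =>
          (χ : G → ℂ) (u * (s : G))) (ψ : Subgroup.centralizer ({u} : Set G) → ℂ) ∈ localRing M)
    {s : Subgroup.centralizer ({u} : Set G)} (hs : ¬ 2 ∣ orderOf s) :
    (∑ χ ∈ A, (a χ : ℂ) * (χ : G → ℂ) (u * (s : G))) /
      (Nat.card (Subgroup.centralizer ({u * (s : G)} : Set G)) : ℂ) ∈ localRing M := by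
  classical
  let X := Subgroup.centralizer ({u} : Set G)
  have := Fintype.ofFinite (IrrCharacter X)
  let θ : X → ℂ := regCut 2 fun t : X => ∑ χ ∈ A, (a χ : ℂ) * (χ : G → ℂ) (u * (t : G))
  have hθc : IsClassFunction X θ := by
    refine regCut_conj 2 fun g y => Finset.sum_congr rfl fun χ _ => ?_
    exact congrArg ((a χ : ℂ) * ·) (isClassFunction_apply_mul (x := u) (IsIrr.isClassFunction χ.2) g y)
  let m : IrrCharacter X → localRing M := fun ψ => ⟨classInner θ (ψ : X → ℂ), by
    have h := hdiv ψ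
    refine (congrArg (· ∈ localRing M) ?_).mpr h
    simp only [θ, classInner, regCut, Finset.mul_sum]
    rw [Finset.sum_comm]
    refine Finset.sum_congr rfl fun t _ => ?_
    by_cases ht : 2 ∣ orderOf t
    · simp [ht]
    · simp only [if_neg ht, Finset.sum_mul, Finset.mul_sum]
      exact Finset.sum_congr rfl fun χ _ => by ring⟩
  have hexp : ∀ t, ∑ ψ, (m ψ : ℂ) * (ψ : X → ℂ) t = θ t := fun t =>
    (classFunction_apply_eq_sum hθc t).symm
  have h := div_centralizer_of_vanish hM Finset.univ m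
    (fun t ht => by rw [hexp]; simp [θ, regCut, ht]) hs
  rw [hexp] at h
  simp only [θ, regCut, if_neg hs] at h
  have hcs : Commute u (s : G) := (Subgroup.mem_centralizer_singleton_iff.1 s.2).symm
  have hodd : Odd (orderOf (s : G)) := by
    rw [Subgroup.orderOf_coe, Nat.odd_iff]; omega
  have hcardeq : Nat.card (Subgroup.centralizer ({u * (s : G)} : Set G)) =
      Nat.card (Subgroup.centralizer ({s} : Set X)) := by
    obtain ⟨m', hm'⟩ := hodd
    have hpow : ∀ g : G, Commute g (u * (s : G)) → Commute g u := fun g hg => by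
      have h1 := hg.pow_right (orderOf (s : G))
      rw [hcs.mul_pow, pow_orderOf_eq_one, mul_one, hm', pow_succ, pow_mul,
        show u ^ 2 = 1 from hu ▸ pow_orderOf_eq_one u, one_pow, one_mul] at h1
      exact h1
    refine Nat.card_congr
      { toFun := fun g => ⟨⟨(g : G), Subgroup.mem_centralizer_singleton_iff.2
            (hpow _ (Subgroup.mem_centralizer_singleton_iff.1 g.2))⟩,
          Subgroup.mem_centralizer_singleton_iff.2 (Subtype.ext ?_)⟩
        invFun := fun g => ⟨((g : X) : G), Subgroup.mem_centralizer_singleton_iff.2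
          ((show Commute ((g : X) : G) u from Subgroup.mem_centralizer_singleton_iff.1 (g : X).2).mul_right
            (congrArg Subtype.val (Subgroup.mem_centralizer_singleton_iff.1 g.2))).eq⟩
        left_inv := fun g => rfl
        right_inv := fun g => rfl }
    have hgu : Commute (g : G) u := hpow _ (Subgroup.mem_centralizer_singleton_iff.1 g.2)
    have hg : Commute (g : G) (u * (s : G)) := Subgroup.mem_centralizer_singleton_iff.1 g.2
    show (g : G) * (s : G) = (s : G) * (g : G)
    have := hgu.inv_right.mul_right hg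
    rwa [inv_mul_cancel_left] at this
  rw [hcardeq]
  exact h

end CfsgLib.KleinIso
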