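import Cfsg.Agent.Lib.Blocks.KleinIsometry.Shape
import Cfsg.Agent.Lib.Blocks.KleinIsometry.Section
import Cfsg.Agent.Lib.Blocks.Vanishing

/-!
# Perfect isometries between 2-blocks with Klein four defect groups
-/

set_option autoImplicit false

namespace CfsgLib.KleinIso

open Cfsg CfsgLib.Char CfsgLib.Blocks CfsgLib.CharAction
open scoped Classical

variable {M : Ideal AlgInt} [M.IsPrime] (hM : IsPModular 2 M)
  {G : Type*} [Group G] [Fintype G] {B : Set (IrrCharacter G)} (hB : IsPBlock M B)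
include hM hB

/-- With one Brauer character the members sum to zero on singular elements. -/
theorem sum_singular_eq_zero (h1 : EqOnRegular B) {x : G} (hx : 2 ∣ orderOf x) :
    ∑ χ ∈ (Set.toFinite B).toFinset, (χ : G → ℂ) x = 0 := by
  obtain ⟨ψ, hψ⟩ := IsPBlock.nonempty hB
  have h0 := sum_block_regular_singular hM hB (x := 1) (by simp) hx
  rw [finsum_mem_eq_finite_toFinset_sum _ (Set.toFinite B)] at h0
  rw [Finset.sum_congr rfl (g := fun χ : IrrCharacter G => (ψ : G → ℂ) 1 * (χ : G → ℂ) x)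
    fun χ hχ => by rw [h1 χ ((Set.Finite.mem_toFinset _).1 hχ) ψ hψ 1 (by simp)], ← Finset.mul_sum,
    mul_eq_zero] at h0
  exact h0.resolve_left (IsIrr.apply_one_ne_zero ψ.2)

/-- With signs the members sum to zero on regular elements. -/
theorem sum_regular_eq_zero' {δ : IrrCharacter G → ℤ} (h3 : SignedOnSingular B δ) {x : G}
    (hx : ¬ 2 ∣ orderOf x) :
    ∑ χ ∈ (Set.toFinite B).toFinset, (δ χ : ℂ) * (χ : G → ℂ) x = 0 := by
  obtain ⟨hsgn, hprop, hne⟩ := h3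
  obtain ⟨ψ, hψ⟩ := IsPBlock.nonempty hB
  obtain ⟨g, hg, hg0⟩ := hne ψ hψ
  have h0 := sum_block_regular_singular hM hB hx hg
  rw [finsum_mem_eq_finite_toFinset_sum _ (Set.toFinite B)] at h0
  rw [Finset.sum_congr rfl (g := fun χ : IrrCharacter G =>
      ((δ ψ : ℂ) * (ψ : G → ℂ) g) * ((δ χ : ℂ) * (χ : G → ℂ) x))
    fun χ hχ => by rw [hprop χ ((Set.Finite.mem_toFinset _).1 hχ) ψ hψ g hg]; ring,
    ← Finset.mul_sum, mul_eq_zero] at h0
  refine h0.resolve_left (mul_ne_zero ?_ hg0)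
  rcases hsgn ψ hψ with h | h <;> simp [h]

variable {P : Subgroup G} (hV : IsKleinFour P) (hD : IsDefectGroup 2 M B P)
include hV hD

/-- The 2-part of an element where `B` does not vanish is trivial or an involution. -/
theorem orderOf_pPart_eq_two {x u : G} (hu : IsPPart 2 x u) (hx : 2 ∣ orderOf x)
    {χ : IrrCharacter G} (hχ : χ ∈ B) (hne : (χ : G → ℂ) x ≠ 0) : orderOf u = 2 := by
  have : Fact (Nat.Prime 2) := ⟨Nat.prime_two⟩
  have hu1 := (IsPPart.dvd_orderOf_iff hM.1 hu).1 hx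
  by_contra hcon
  refine hne (apply_eq_zero_of_pPart_notMem hM hB hχ hu fun E hE hmem => ?_)
  obtain ⟨g, hg⟩ := SubConj.exists_map_eq (IsDefectGroup.subConj hM hB hE hD)
    (IsDefectGroup.subConj hM hB hD hE)
  have h1 : MulAut.conj g u ∈ P := hg ▸ Subgroup.mem_map_of_mem _ hmem
  have h2 := orderOf_of_mem hV h1 fun e => hu1 ((MulEquiv.map_eq_one_iff _).1 e)
  rw [MulEquiv.orderOf_eq] at h2
  exact hcon h2

/-- On singular elements the values are congruent modulo two when they agree on regular ones. -/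
theorem exists_congr_value (h1 : EqOnRegular B) {x : G} (hx : 2 ∣ orderOf x) :
    ∃ a₀ : localRing M, ∀ χ ∈ B, ∃ w : localRing M, (χ : G → ℂ) x = a₀ + 2 * w := by
  have : Fact (Nat.Prime 2) := ⟨Nat.prime_two⟩
  by_cases hz : ∀ χ ∈ B, (χ : G → ℂ) x = 0
  · exact ⟨0, fun χ hχ => ⟨0, by rw [hz χ hχ]; simp⟩⟩
  push Not at hz
  obtain ⟨ψ, hψ, hne⟩ := hz
  obtain ⟨u, hu⟩ := exists_pPart hM.1 x
  have hu2 := orderOf_pPart_eq_two hM hB hV hD hu hx hψ hne
  obtain ⟨s, rfl, hcs, -, hs⟩ := hu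
  let X := Subgroup.centralizer ({u} : Set G)
  have := Fintype.ofFinite (IrrCharacter X)
  have hsX : s ∈ X := Subgroup.mem_centralizer_singleton_iff.2 hcs.eq.symm
  refine ⟨⟨(ψ : G → ℂ) s, mem_localRing_of_isIntegral
    (IsChar.isIntegral (IsIrr.isCharacter ψ.2) _)⟩, fun χ hχ => ?_⟩
  obtain ⟨n, w, hw, hsgn, hres, htw⟩ := exists_twisted_decomposition χ u
  refine ⟨⟨∑ ξ, (n ξ : ℂ) * (if w ξ = 1 then 0 else -1) * (ξ : X → ℂ) ⟨s, hsX⟩,
    Subring.sum_mem _ fun ξ _ => mul_mem (mul_mem (natCast_mem _ _)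
      (by split_ifs; exacts [zero_mem _, neg_mem (one_mem _)]))
      (mem_localRing_of_isIntegral (IsChar.isIntegral (IsIrr.isCharacter ξ.2) _))⟩, ?_⟩
  have hs' : ¬ 2 ∣ orderOf s := hs
  show (χ : G → ℂ) (u * ((⟨s, hsX⟩ : X) : G)) = (ψ : G → ℂ) s + 2 * ∑ ξ, _
  rw [htw, show (ψ : G → ℂ) s = (χ : G → ℂ) ((⟨s, hsX⟩ : X) : G) from (h1 χ hχ ψ hψ s hs').symm,
    hres, Finset.mul_sum, ← Finset.sum_add_distrib]
  refine Finset.sum_congr rfl fun ξ _ => ?_
  rcases hsgn ξ hu2 with h | h <;> rw [h]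
  · simp
  · norm_num; ring

/-- Divisibility on singular elements. -/
theorem div_centralizer_singular {x : G} (hx : 2 ∣ orderOf x) (a : IrrCharacter G → localRing M)
    (hcase : (EqOnRegular B ∧ ∑ χ ∈ (Set.toFinite B).toFinset, (a χ : ℂ) = 0 ∧
        ∃ a₀ : localRing M, ∀ χ ∈ B, ∃ w : localRing M, (a χ : ℂ) = a₀ + 2 * w) ∨
      (∃ δ, SignedOnSingular B δ ∧ ∃ f : localRing M, ∀ χ ∈ B, (a χ : ℂ) = δ χ * f)) :
    (∑ χ ∈ (Set.toFinite B).toFinset, (a χ : ℂ) * (χ : G → ℂ) x) /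
      (Nat.card (Subgroup.centralizer ({x} : Set G)) : ℂ) ∈ localRing M := by
  have : Fact (Nat.Prime 2) := ⟨Nat.prime_two⟩
  set A := (Set.toFinite B).toFinset with hA
  have hmemA : ∀ {χ : IrrCharacter G}, χ ∈ A → χ ∈ B := fun h => (Set.Finite.mem_toFinset _).1 h
  by_cases hz : ∀ χ ∈ B, (χ : G → ℂ) x = 0
  · rw [Finset.sum_eq_zero fun χ hχ => by rw [hz χ (hmemA hχ), mul_zero], zero_div]
    exact zero_mem _
  push Not at hz
  obtain ⟨ψ₀, hψ₀, hne⟩ := hz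
  obtain ⟨u, hu⟩ := exists_pPart hM.1 x
  have hu2 := orderOf_pPart_eq_two hM hB hV hD hu hx hψ₀ hne
  obtain ⟨s, rfl, hcs, -, hs⟩ := hu
  let X := Subgroup.centralizer ({u} : Set G)
  have hsX : s ∈ X := Subgroup.mem_centralizer_singleton_iff.2 hcs.eq.symm
  refine div_centralizer_section hM hB hu2 A a (fun ψ => ?_) (s := ⟨s, hsX⟩)
    (fun h => hs (Subgroup.orderOf_coe (⟨s, hsX⟩ : X) ▸ h))
  obtain ⟨q, hq, hpar⟩ := exists_sectionNum hM hB hD hV.card_four hu2 ψ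
  have hm : ∀ χ ∈ A, classInner (regCut 2 fun t : X => (χ : G → ℂ) (u * (t : G)))
      (ψ : X → ℂ) = (q χ : ℂ) / 4 := fun χ hχ => by
    rw [← hq χ (hmemA hχ)]; ring
  rw [Finset.sum_congr rfl fun χ hχ => by rw [hm χ hχ]]
  rcases hcase with ⟨h1, hsum, a₀, ha₀⟩ | ⟨δ, ⟨hsgn, hprop, -⟩, f, hf⟩
  · choose! w hw using ha₀
    choose! r hr using fun χ (hχ : χ ∈ B) => hpar χ hχ ψ₀ hψ₀ (h1 χ hχ ψ₀ hψ₀)
    have hqs : ∑ χ ∈ A, (q χ : ℂ) = 0 := by
      rw [Finset.sum_congr rfl fun χ hχ => (hq χ (hmemA hχ)).symm, ← Finset.mul_sum]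
      refine mul_eq_zero_of_right _ ?_
      simp only [classInner, regCut]
      rw [← Finset.mul_sum, Finset.sum_comm]
      refine mul_eq_zero_of_right _ (Finset.sum_eq_zero fun t _ => ?_)
      rw [← Finset.sum_mul]
      refine mul_eq_zero_of_left ?_ _
      by_cases ht : 2 ∣ orderOf t
      · simp [ht]
      · simp only [if_neg ht]
        refine sum_singular_eq_zero hM hB h1 ?_
        have hct : Commute u (t : G) := (Subgroup.mem_centralizer_singleton_iff.1 t.2).symm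
        have hpp : IsPPart 2 (u * (t : G)) u :=
          ⟨t, rfl, hct, ⟨1, by rw [hu2, pow_one]⟩, by rwa [Subgroup.orderOf_coe]⟩
        refine (IsPPart.dvd_orderOf_iff hM.1 hpp).2 fun e => ?_
        rw [e, orderOf_one] at hu2
        omega
    have hcardA : ∀ z : ℂ, ∑ _χ ∈ A, z = (A.card : ℂ) * z := fun z => by
      rw [Finset.sum_const, nsmul_eq_mul]
    -- the total is four times a local integer
    have hgoal : ∑ χ ∈ A, (a χ : ℂ) * ((q χ : ℂ) / 4) =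
        (∑ χ ∈ A, (w χ : ℂ) * r χ) - (a₀ : ℂ) * (q ψ₀ : ℂ) := by
      have e1 : ∀ χ ∈ A, (q χ : ℂ) = q ψ₀ + 2 * r χ := fun χ hχ => by
        rw [show q χ = q ψ₀ + 2 * r χ by linarith [hr χ (hmemA hχ)]]; push_cast; ring
      have hA4 : (A.card : ℂ) = 4 := by
        have h4 := (block_shape hM hV hB hD).1
        rw [Nat.card_coe_set_eq, Set.ncard_eq_toFinset_card B (Set.toFinite B)] at h4
        rw [hA, h4]; norm_num
      have hw0 : 4 * (a₀ : ℂ) + 2 * ∑ χ ∈ A, (w χ : ℂ) = 0 := by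
        rw [← hA4, ← hcardA, Finset.mul_sum, ← Finset.sum_add_distrib, ← hsum]
        exact Finset.sum_congr rfl fun χ hχ => (hw χ (hmemA hχ)).symm
      have hr0 : 4 * (q ψ₀ : ℂ) + 2 * ∑ χ ∈ A, (r χ : ℂ) = 0 := by
        rw [← hA4, ← hcardA, Finset.mul_sum, ← Finset.sum_add_distrib, ← hqs]
        exact Finset.sum_congr rfl fun χ hχ => (e1 χ hχ).symm
      rw [Finset.sum_congr rfl (g := fun χ => (a₀ : ℂ) * q ψ₀ / 4 + ((a₀ : ℂ) / 2 * r χ +
        ((q ψ₀ : ℂ) / 2 * (w χ : ℂ) + (w χ : ℂ) * r χ))) fun χ hχ => by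
          rw [hw χ (hmemA hχ), e1 χ hχ]; ring,
        Finset.sum_add_distrib, Finset.sum_add_distrib, Finset.sum_add_distrib, hcardA, hA4,
        ← Finset.mul_sum, ← Finset.mul_sum]
      linear_combination (a₀ : ℂ) / 4 * hr0 + (q ψ₀ : ℂ) / 4 * hw0
    rw [hgoal]
    exact sub_mem (Subring.sum_mem _ fun χ _ => mul_mem (w χ).2 (intCast_mem _ _))
      (mul_mem a₀.2 (intCast_mem _ _))
  · have hqd : ∀ χ ∈ A, (q χ : ℂ) = (δ χ : ℂ) * ((δ ψ₀ : ℂ) * q ψ₀) := fun χ hχ => by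
      rw [← hq χ (hmemA hχ), ← hq ψ₀ hψ₀]
      simp only [classInner, regCut, Finset.mul_sum]
      refine Finset.sum_congr rfl fun t _ => ?_
      by_cases ht : 2 ∣ orderOf t
      · simp [ht]
      · simp only [if_neg ht]
        have hct : Commute u (t : G) := (Subgroup.mem_centralizer_singleton_iff.1 t.2).symm
        have hpp : IsPPart 2 (u * (t : G)) u :=
          ⟨t, rfl, hct, ⟨1, by rw [hu2, pow_one]⟩, by rwa [Subgroup.orderOf_coe]⟩
        rw [hprop χ (hmemA hχ) ψ₀ hψ₀ _ ((IsPPart.dvd_orderOf_iff hM.1 hpp).2 fun e => by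
          rw [e, orderOf_one] at hu2; omega)]
        ring
    have hA4 : A.card = 4 := by
      have h4 := (block_shape hM hV hB hD).1
      rwa [Nat.card_coe_set_eq, Set.ncard_eq_toFinset_card B (Set.toFinite B)] at h4
    rw [Finset.sum_congr rfl (g := fun _ => (f : ℂ) * ((δ ψ₀ : ℂ) * q ψ₀) / 4) fun χ hχ => by
      rw [hf χ (hmemA hχ), hqd χ hχ]
      have hsq : (δ χ : ℂ) * δ χ = 1 := by
        rcases hsgn χ (hmemA hχ) with h | h <;> simp [h]
      linear_combination (f : ℂ) * ((δ ψ₀ : ℂ) * q ψ₀) / 4 * hsq,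
      Finset.sum_const, hA4, nsmul_eq_mul,
      show ((4 : ℕ) : ℂ) * ((f : ℂ) * ((δ ψ₀ : ℂ) * q ψ₀) / 4) = (f : ℂ) * ((δ ψ₀ : ℂ) * q ψ₀) by
        push_cast; ring]
    exact mul_mem f.2 (mul_mem (intCast_mem _ _) (intCast_mem _ _))

end CfsgLib.KleinIso
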