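import Cfsg.Agent.Lib.Blocks.KleinDefect
import Cfsg.Agent.Lib.Pairs.Correspondence
import Cfsg.Agent.Lib.Char.Exceptional.Coherence3

/-!
# The shape of a 2-block with a Klein four defect group
-/

set_option autoImplicit false

namespace CfsgLib.KleinIso

open Cfsg CfsgLib.Char CfsgLib.Blocks CfsgLib.CharAction CfsgLib.Pairs
open scoped ComplexConjugate Classical

variable {M : Ideal AlgInt} [M.IsPrime] (hM : IsPModular 2 M)
  {G : Type*} [Group G] [Fintype G] {B : Set (IrrCharacter G)}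

/-- All members of `B` agree on the 2-regular elements. -/
def EqOnRegular (B : Set (IrrCharacter G)) : Prop :=
  ∀ χ ∈ B, ∀ ψ ∈ B, ∀ g : G, ¬ 2 ∣ orderOf g → (χ : G → ℂ) g = (ψ : G → ℂ) g

/-- The members of `B` agree up to the signs `δ` on the 2-singular elements. -/
def SignedOnSingular (B : Set (IrrCharacter G)) (δ : IrrCharacter G → ℤ) : Prop :=
  (∀ χ ∈ B, δ χ = 1 ∨ δ χ = -1) ∧ (∀ χ ∈ B, ∀ ψ ∈ B, ∀ g : G, 2 ∣ orderOf g →
    (χ : G → ℂ) g = (δ χ : ℂ) * δ ψ * (ψ : G → ℂ) g) ∧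
    ∀ χ ∈ B, ∃ g : G, 2 ∣ orderOf g ∧ (χ : G → ℂ) g ≠ 0

omit [M.IsPrime] in
theorem sq_norm_eq_zero {f f' : G → ℂ} {c : ℂ} (hc : conj c = c)
    (h : classInner f f + c * c * classInner f' f' + c * classInner f f' + c * classInner f' f = 0) :
    ∀ g, f g + c * f' g = 0 := by
  have h0 : classInner (fun g => f g + c * f' g) (fun g => f g + c * f' g) = 0 := by
    refine Eq.trans ?_ h
    simp only [classInner, map_add, map_mul, hc, Finset.mul_sum, ← Finset.sum_add_distrib]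
    exact Finset.sum_congr rfl fun g _ => by ring
  exact congrFun (Exceptional.eq_zero_of_classInner_self (by rw [h0, Complex.zero_re]))

omit [M.IsPrime] in
theorem classInner_regCut_regCut (χ ψ : G → ℂ) :
    classInner (regCut 2 χ) (regCut 2 ψ) = classInner (regCut 2 χ) ψ := by
  simp only [classInner, regCut]
  congr 1
  refine Finset.sum_congr rfl fun g _ => ?_
  split <;> simp

omit [M.IsPrime] in
theorem classInner_singular (χ ψ : G → ℂ) :
    classInner (fun g => χ g - regCut 2 χ g) (fun g => ψ g - regCut 2 ψ g) =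
      classInner χ ψ - classInner (regCut 2 χ) ψ := by
  simp only [classInner, regCut, ← mul_sub, ← Finset.sum_sub_distrib]
  congr 1
  refine Finset.sum_congr rfl fun g _ => ?_
  split <;> simp

include hM

theorem block_shape {P : Subgroup G} (hV : IsKleinFour P) (hB : IsPBlock M B)
    (hD : IsDefectGroup 2 M B P) :
    Nat.card B = 4 ∧ ((blockRank 2 B = 1 ∧ EqOnRegular B) ∨
      (blockRank 2 B = 3 ∧ ∃ δ, SignedOnSingular B δ)) := by
  have : Fact (Nat.Prime 2) := ⟨Nat.prime_two⟩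
  have := Fintype.ofFinite (IrrCharacter G)
  have hab : ∀ a ∈ P, ∀ b ∈ P, a * b = b * a := fun a ha b hb => commute_mem hV ha hb
  obtain ⟨e₀, he₀⟩ := exists_pairOf_of_isDefectGroup hM hB hD
  have hmax := isMaximal_of_isDefectGroup hM he₀ hD
  have hd := blockDefect_eq_two hM hV.card_four hab hmax
  have h4 := card_eq_four_of_defect_two hM hB hd
  refine ⟨h4, ?_⟩
  set A := Finset.univ.filter (· ∈ B) with hA
  have hA4 : A.card = 4 := by
    rw [hA, ← Fintype.card_subtype, ← Nat.card_eq_fintype_card]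
    exact h4
  have hmemA : ∀ {χ : IrrCharacter G}, χ ∈ A ↔ χ ∈ B := fun {χ} => by simp [hA]
  have hh := fun χ (hχ : χ ∈ B) => blockHeight_eq_zero_of_defect_two hM hB hd (χ := χ) hχ
  have hcoef : ∀ χ : IrrCharacter G, χ ∈ B → ∃ e : IrrCharacter G → ℤ,
      (∀ ξ : IrrCharacter G, 4 * classInner (regCut 2 (χ : G → ℂ)) (ξ : G → ℂ) = (e ξ : ℂ)) ∧
      (∀ ξ ∈ B, Odd (e ξ)) ∧ ∑ ξ ∈ A, e ξ ^ 2 = 4 * e χ := by
    intro χ hχ
    obtain ⟨e, he, hsum⟩ := exists_coeff hM hB hχ (p := 2)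
    rw [hh χ hχ, Nat.sub_zero, hd] at hsum
    have ha : (Nat.card G).factorization 2 = degVal 2 (χ : G → ℂ) + 2 := by
      have h1 := degVal_eq_add (p := 2) hχ
      have h2 : blockDefect 2 B ≤ (Nat.card G).factorization 2 := by
        rw [blockDefect_eq_sub]; exact Nat.sub_le _ _
      rw [hh χ hχ] at h1
      omega
    refine ⟨e, fun ξ => ?_, fun ξ hξ => ?_, by rw [hsum]; norm_num⟩
    · have h1 := regNum_eq (p := 2) χ ξ
      rw [he, ha, pow_add] at h1
      push_cast at h1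
      refine mul_left_cancel₀ (pow_ne_zero (degVal 2 (χ : G → ℂ)) (two_ne_zero (α := ℂ))) ?_
      rw [← h1]
      ring
    · rw [← Int.not_even_iff_odd, even_iff_two_dvd]
      intro h2
      refine (not_pow_succ_dvd_regNum_iff hM hB hχ hξ (p := 2)).2 (hh χ hχ) ?_
      rw [he, show degVal 2 (ξ : G → ℂ) = degVal 2 (χ : G → ℂ) by
        rw [degVal_eq_add (p := 2) hξ, degVal_eq_add (p := 2) hχ, hh χ hχ, hh ξ hξ], pow_succ]
      exact mul_dvd_mul_left _ (by exact_mod_cast h2)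
  choose! e he hodd hsum using hcoef
  have hsq : ∀ χ ∈ B, ∀ ξ ∈ B, 1 ≤ e χ ξ ^ 2 := fun χ hχ ξ hξ => by
    obtain ⟨m, hm⟩ := hodd χ hχ ξ hξ
    rw [hm]
    rcases le_or_gt 0 m with h | h <;> nlinarith
  have herase : ∀ χ ∈ B, 3 ≤ ∑ ξ ∈ A.erase χ, e χ ξ ^ 2 ∧
      (∑ ξ ∈ A.erase χ, e χ ξ ^ 2 = 3 → ∀ ξ ∈ A.erase χ, e χ ξ ^ 2 = 1) ∧
      e χ χ ^ 2 + ∑ ξ ∈ A.erase χ, e χ ξ ^ 2 = 4 * e χ χ := by
    intro χ hχ
    have hle : ∀ ξ ∈ A.erase χ, (1 : ℤ) ≤ e χ ξ ^ 2 := fun ξ hξ =>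
      hsq χ hχ ξ (hmemA.1 (Finset.mem_of_mem_erase hξ))
    have hc : (A.erase χ).card = 3 := by rw [Finset.card_erase_of_mem (hmemA.2 hχ), hA4]
    have h3 := Finset.sum_le_sum hle
    rw [Finset.sum_const, hc, nsmul_eq_mul, mul_one] at h3
    push_cast at h3
    refine ⟨h3, fun h ξ hξ => ?_, (Finset.add_sum_erase A _ (hmemA.2 hχ)).trans (hsum χ hχ)⟩
    refine ((Finset.sum_eq_sum_iff_of_le hle).1 ?_ ξ hξ).symm
    rw [h, Finset.sum_const, hc, nsmul_eq_mul, mul_one]
    norm_num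
  have hdiag : ∀ χ ∈ B, e χ χ = 1 ∨ e χ χ = 3 := by
    intro χ hχ
    obtain ⟨h3, -, heq⟩ := herase χ hχ
    obtain ⟨m, hm⟩ := hodd χ hχ χ hχ
    rw [hm] at heq ⊢
    have : 0 ≤ m ∧ m ≤ 1 := by constructor <;> nlinarith
    omega
  have htr : ∑ χ ∈ A, e χ χ = 4 * (blockRank 2 B : ℤ) := by
    have h := blockRank_eq_sum (p := 2) hM hB
    rw [show (Set.toFinite B).toFinset = A by ext; simp [hA]] at h
    have h' : ((∑ χ ∈ A, e χ χ : ℤ) : ℂ) = ((4 * (blockRank 2 B : ℤ) : ℤ) : ℂ) := by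
      push_cast
      rw [h, Finset.mul_sum]
      exact Finset.sum_congr rfl fun χ hχ => (he χ (hmemA.1 hχ) χ).symm
    exact_mod_cast h'
  have hrank := inertial_index hM hV hmax
  rw [← blockRank_eq_relIndex hM hV hmax] at hrank
  rcases hrank with hl | hl
  · -- one irreducible Brauer character
    refine Or.inl ⟨hl, ?_⟩
    have hd1 : ∀ χ ∈ B, e χ χ = 1 := fun χ hχ => by
      have hle : ∀ ξ ∈ A, (1 : ℤ) ≤ e ξ ξ := fun ξ hξ => by
        rcases hdiag ξ (hmemA.1 hξ) with h | h <;> omega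
      refine ((Finset.sum_eq_sum_iff_of_le hle).1 ?_ χ (hmemA.2 hχ)).symm
      rw [htr, hl, Finset.sum_const, hA4, nsmul_eq_mul]
      norm_num
    intro χ hχ ψ hψ
    rcases eq_or_ne χ ψ with rfl | hne
    · exact fun g _ => rfl
    obtain ⟨-, hall, heq⟩ := herase χ hχ
    rw [hd1 χ hχ] at heq
    have he2 := hall (by linarith) ψ (Finset.mem_erase.2 ⟨hne.symm, hmemA.2 hψ⟩)
    have hval : ∀ g, regCut 2 (χ : G → ℂ) g + (-(e χ ψ : ℂ)) * regCut 2 (ψ : G → ℂ) g = 0 := by
      refine sq_norm_eq_zero (by simp) ?_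
      rw [classInner_regCut_regCut, classInner_regCut_regCut, classInner_regCut_regCut,
        classInner_regCut_regCut, classInner_regCut_swap (ψ : G → ℂ) (χ : G → ℂ)]
      have h1 := he χ hχ χ
      have h2 := he ψ hψ ψ
      have h3 := he χ hχ ψ
      have h4' := congrArg conj h3
      rw [map_mul, map_intCast, map_ofNat] at h4'
      rw [hd1 χ hχ] at h1
      rw [hd1 ψ hψ] at h2
      have h5 : (e χ ψ : ℂ) * e χ ψ = 1 := by rw [← pow_two]; exact_mod_cast he2
      refine mul_left_cancel₀ (show (4 : ℂ) ≠ 0 by norm_num) ?_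
      rw [mul_zero]
      push_cast at h1 h2
      linear_combination h1 + (e χ ψ : ℂ) * (e χ ψ : ℂ) * h2 - (e χ ψ : ℂ) * h3 - (e χ ψ : ℂ) * h4' - h5
    have hone : e χ ψ = 1 := by
      rcases sq_eq_one_iff.1 he2 with h | h
      · exact h
      · have h1 := hval 1
        rw [h] at h1
        simp only [regCut, orderOf_one, show ¬ (2 ∣ 1) by decide, if_false, apply_one_eq_charDegree] at h1
        push_cast at h1
        have := charDegree_pos χ
        have h1' : ((charDegree (χ : G → ℂ) + charDegree (ψ : G → ℂ) : ℕ) : ℂ) = 0 := by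
          push_cast
          linear_combination h1
        rw [Nat.cast_eq_zero] at h1'
        omega
    intro g hg
    have h1 := hval g
    rw [hone] at h1
    simp only [regCut, if_neg hg] at h1
    push_cast at h1
    linear_combination h1
  · -- three irreducible Brauer characters
    refine Or.inr ⟨hl, ?_⟩
    have hd3 : ∀ χ ∈ B, e χ χ = 3 := fun χ hχ => by
      have hle : ∀ ξ ∈ A, e ξ ξ ≤ (3 : ℤ) := fun ξ hξ => by
        rcases hdiag ξ (hmemA.1 hξ) with h | h <;> omega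
      refine (Finset.sum_eq_sum_iff_of_le hle).1 ?_ χ (hmemA.2 hχ)
      rw [htr, hl, Finset.sum_const, hA4, nsmul_eq_mul]
      norm_num
    obtain ⟨χ₀, hχ₀⟩ := IsPBlock.nonempty hB
    have key : ∀ χ ∈ B, χ ≠ χ₀ → e χ χ₀ ^ 2 = 1 ∧ ∀ g : G, 2 ∣ orderOf g →
        (χ : G → ℂ) g = -(e χ χ₀ : ℂ) * (χ₀ : G → ℂ) g := by
      intro χ hχ hne
      obtain ⟨-, hall, heq⟩ := herase χ hχ
      rw [hd3 χ hχ] at heq
      have he2 := hall (by linarith) χ₀ (Finset.mem_erase.2 ⟨hne.symm, hmemA.2 hχ₀⟩)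
      refine ⟨he2, fun g hg => ?_⟩
      have hval : ∀ g, ((χ : G → ℂ) g - regCut 2 (χ : G → ℂ) g) +
          (e χ χ₀ : ℂ) * ((χ₀ : G → ℂ) g - regCut 2 (χ₀ : G → ℂ) g) = 0 := by
        refine sq_norm_eq_zero (by simp) ?_
        rw [classInner_singular, classInner_singular, classInner_singular, classInner_singular,
          classInner_regCut_swap (χ₀ : G → ℂ) (χ : G → ℂ), Char.classInner_irr_self,
          Char.classInner_irr_self, Char.classInner_irr_of_ne hne,
          Char.classInner_irr_of_ne hne.symm]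
        have h1 := he χ hχ χ
        have h2 := he χ₀ hχ₀ χ₀
        have h3 := he χ hχ χ₀
        have h4' := congrArg conj h3
        rw [map_mul, map_intCast, map_ofNat] at h4'
        rw [hd3 χ hχ] at h1
        rw [hd3 χ₀ hχ₀] at h2
        have h5 : (e χ χ₀ : ℂ) * e χ χ₀ = 1 := by rw [← pow_two]; exact_mod_cast he2
        refine mul_left_cancel₀ (show (4 : ℂ) ≠ 0 by norm_num) ?_
        rw [mul_zero]
        push_cast at h1 h2
        linear_combination -h1 - (e χ χ₀ : ℂ) * (e χ χ₀ : ℂ) * h2 - (e χ χ₀ : ℂ) * h3 - (e χ χ₀ : ℂ) * h4' - h5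
      have h1 := hval g
      simp only [regCut, if_pos hg, sub_zero] at h1
      linear_combination h1
    refine ⟨fun χ => if χ = χ₀ then 1 else -e χ χ₀, fun χ hχ => ?_, fun χ hχ ψ hψ g hg => ?_,
      fun χ hχ => ?_⟩
    · dsimp only
      split_ifs with h
      · exact Or.inl rfl
      · rcases sq_eq_one_iff.1 (key χ hχ h).1 with h' | h' <;> simp [h']
    · dsimp only
      have hto : ∀ χ ∈ B, (χ : G → ℂ) g =
          (((if χ = χ₀ then 1 else -e χ χ₀ : ℤ)) : ℂ) * (χ₀ : G → ℂ) g := fun χ hχ => by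
        split_ifs with h
        · simp [h]
        · rw [(key χ hχ h).2 g hg]; push_cast; ring
      have hsq' : ((if ψ = χ₀ then 1 else -e ψ χ₀ : ℤ) : ℂ) *
          (((if ψ = χ₀ then 1 else -e ψ χ₀ : ℤ)) : ℂ) = 1 := by
        split_ifs with h
        · simp
        · rw [← pow_two, Int.cast_neg, neg_sq]; exact_mod_cast (key ψ hψ h).1
      rw [hto χ hχ, hto ψ hψ, mul_assoc (_ : ℂ), ← mul_assoc _ _ ((χ₀ : G → ℂ) g), hsq', one_mul]
    · by_contra hcon
      push Not at hcon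
      have h0 : regCut 2 (χ : G → ℂ) = (χ : G → ℂ) := funext fun g => by
        simp only [regCut]
        split_ifs with hg
        · rw [hcon g hg]
        · rfl
      have h1 := he χ hχ χ
      rw [h0, Char.classInner_irr_self, hd3 χ hχ] at h1
      norm_num at h1

end CfsgLib.KleinIso
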